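import Mathlib
import Groth.Prelude.Def_PolLaw2
import Groth.Agent.H22Alg.PolyLawExt

/-!
The determinant law of a finite module over an integrally closed domain, in its generic rank.
-/

universe u

open scoped TensorProduct
open Polynomial

namespace Groth.Agent.H9DetNormal

/-- The determinant of a matrix killed by a monic polynomial with coefficients in `R` is integral
over `R`. -/
theorem isIntegral_det {R S : Type*} [CommRing R] [CommRing S] [IsDomain S] [Algebra R S]
    {n : Type*} [Fintype n] [DecidableEq n] (M : Matrix n n S) (p : R[X]) (hp : p.Monic)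
    (h : Polynomial.aeval M p = 0) : IsIntegral R M.det := by
  let F := AlgebraicClosure (FractionRing S)
  let j : S →ₐ[R] F := IsScalarTower.toAlgHom R S F
  have hj : Function.Injective j := by
    rw [IsScalarTower.coe_toAlgHom', IsScalarTower.algebraMap_eq S (FractionRing S) F]
    exact (algebraMap (FractionRing S) F).injective.comp (IsFractionRing.injective S (FractionRing S))
  rw [← isIntegral_algHom_iff j hj]
  rw [AlgHom.map_det]
  set N : Matrix n n F := j.mapMatrix M
  have hN : Polynomial.aeval N p = 0 := by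
    rw [Polynomial.aeval_algHom_apply, h, map_zero]
  rw [Matrix.det_eq_prod_roots_charpoly]
  refine IsIntegral.multiset_prod fun r hr => ?_
  have hroot : N.charpoly.IsRoot r := (Polynomial.mem_roots'.1 hr).2
  have hspec := Matrix.mem_spectrum_iff_isRoot_charpoly.2 hroot
  refine ⟨p, hp, ?_⟩
  have h2 : (p.map (algebraMap R F)).eval r ∈ spectrum F (Polynomial.aeval N (p.map (algebraMap R F))) :=
    spectrum.subset_polynomial_aeval N _ ⟨r, hspec, rfl⟩
  rw [Polynomial.aeval_map_algebraMap, hN] at h2
  have : Nontrivial (Matrix n n F) := by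
    by_contra hnt
    rw [not_nontrivial_iff_subsingleton] at hnt
    exact hspec (isUnit_of_subsingleton _)
  rw [spectrum.zero_eq, Set.mem_singleton_iff, Polynomial.eval_map] at h2
  exact h2

variable {A : Type u} [CommRing A] {B : Type u} [CommRing B] [Algebra A B]
  {M : Type u} [AddCommGroup M] [Module A M] [Module B M] [IsScalarTower A B M]

/-- Change of test algebra on `S ⊗ B`. -/
noncomputable abbrev mapB {R R' : Type u} [CommSemiring R] [Algebra A R] [CommSemiring R'] [Algebra A R']
    (φ : R →ₐ[A] R') : R ⊗[A] B →ₐ[A] R' ⊗[A] B :=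
  Algebra.TensorProduct.map φ (AlgHom.id A B)

theorem rTensor_eq_mapB {R R' : Type u} [CommSemiring R] [Algebra A R] [CommSemiring R'] [Algebra A R']
    (φ : R →ₐ[A] R') (x : R ⊗[A] B) : φ.toLinearMap.rTensor B x = mapB φ x :=
  LinearMap.congr_fun (TensorProduct.ext' fun r b => by simp :
    φ.toLinearMap.rTensor B = (mapB φ).toLinearMap) x

variable (M) in
/-- Naturality of the determinant of the action out of a test algebra over which the module is free. -/
theorem det_mapB {R R' : Type u} [CommRing R] [Algebra A R] [CommRing R'] [Algebra A R']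
    [Module.Free R (R ⊗[A] M)] [Module.Finite R (R ⊗[A] M)] (φ : R →ₐ[A] R') (x : R ⊗[A] B) :
    LinearMap.det (PolLaw.actEnd M R' (mapB φ x)) = φ (LinearMap.det (PolLaw.actEnd M R x)) := by
  letI : Algebra R R' := φ.toRingHom.toAlgebra
  haveI : IsScalarTower A R R' := IsScalarTower.of_algebraMap_eq fun a => (φ.commutes a).symm
  let e := TensorProduct.AlgebraTensorModule.cancelBaseChange A R R' R' M
  have he : ∀ (s : R') (z : R ⊗[A] M), e (s ⊗ₜ[R] z) = s • φ.toLinearMap.rTensor M z := by
    intro s z
    induction z using TensorProduct.induction_on with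
    | zero => simp
    | tmul r m =>
      rw [TensorProduct.AlgebraTensorModule.cancelBaseChange_tmul, LinearMap.rTensor_tmul,
        TensorProduct.smul_tmul', AlgHom.toLinearMap_apply, smul_eq_mul]
      congr 1
      rw [Algebra.smul_def, mul_comm]
      rfl
    | add a b ha hb => rw [TensorProduct.tmul_add, map_add, ha, hb, map_add, smul_add]
  have key : PolLaw.actEnd M R' (mapB φ x) =
      e.toLinearMap ∘ₗ (PolLaw.actEnd M R x).baseChange R' ∘ₗ e.symm.toLinearMap := by
    rw [← LinearMap.comp_assoc, LinearEquiv.eq_comp_toLinearMap_symm]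
    refine TensorProduct.AlgebraTensorModule.ext fun s z => ?_
    simp only [LinearMap.coe_comp, LinearEquiv.coe_coe, Function.comp_apply, LinearMap.baseChange_tmul,
      he, map_smul]
    congr 1
    exact (PolLaw.rTensor_actEnd M φ x z).symm
  rw [key, LinearMap.det_conj, LinearMap.det_baseChange]
  rfl

theorem det_smul_act {R : Type u} [CommRing R] [Algebra A R] [Module.Free R (R ⊗[A] M)]
    {d : ℕ} (hd : Module.finrank R (R ⊗[A] M) = d) (s : R) (x : R ⊗[A] B) :
    LinearMap.det (PolLaw.actEnd M R (s • x)) = s ^ d * LinearMap.det (PolLaw.actEnd M R x) := by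
  rw [map_smul, LinearMap.det_smul, hd]

section Poly

variable (M)

variable [IsDomain A]

/-- `A[t₁, …, tₙ]`. -/
abbrev P (A : Type u) [CommRing A] (n : ℕ) : Type u := MvPolynomial (Fin n) A

/-- `K[t₁, …, tₙ]`, `K` the fraction field. -/
abbrev Q (A : Type u) [CommRing A] (n : ℕ) : Type u := MvPolynomial (Fin n) (FractionRing A)

variable (A) in
/-- The inclusion of `A[t]` in `K[t]`. -/
noncomputable def incl (n : ℕ) : P A n →ₐ[A] Q A n :=
  MvPolynomial.mapAlgHom (Algebra.ofId A (FractionRing A))

theorem incl_injective (n : ℕ) : Function.Injective (incl A n) :=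
  MvPolynomial.map_injective _ (IsFractionRing.injective A (FractionRing A))

instance (n : ℕ) : Module.Free (Q A n) (Q A n ⊗[A] M) :=
  Module.Free.of_equiv
    (TensorProduct.AlgebraTensorModule.cancelBaseChange A (FractionRing A) (Q A n) (Q A n) M)

instance [Module.Finite A M] (n : ℕ) : Module.Finite (Q A n) (Q A n ⊗[A] M) :=
  Module.Finite.base_change A (Q A n) M

theorem finrank_Q (n : ℕ) :
    Module.finrank (Q A n) (Q A n ⊗[A] M) = Module.finrank (FractionRing A) (FractionRing A ⊗[A] M) := by
  rw [← (TensorProduct.AlgebraTensorModule.cancelBaseChange A (FractionRing A) (Q A n) (Q A n) M).finrank_eq,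
    Module.finrank_baseChange]

variable [Module.Finite A M]

/-- The determinant over `K[t]` of the action of an element of `A[t] ⊗ B`. -/
noncomputable def detQ (n : ℕ) (x : P A n ⊗[A] B) : Q A n :=
  LinearMap.det (M := Q A n ⊗[A] M) (PolLaw.actEnd M (Q A n) (mapB (incl A n) x))

theorem isIntegral_detQ (n : ℕ) (x : P A n ⊗[A] B) :
    @IsIntegral (P A n) (Q A n) _ _ MvPolynomial.algebraMvPolynomial (detQ M n x) := by
  letI : Algebra (P A n) (Q A n) := MvPolynomial.algebraMvPolynomial
  have hinc : ∀ r : P A n, algebraMap (P A n) (Q A n) r = incl A n r := fun _ => rfl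
  haveI : Module.Finite (P A n) (P A n ⊗[A] M) := Module.Finite.base_change A (P A n) M
  obtain ⟨p, hpm, -, hp⟩ := LinearMap.exists_monic_and_natDegree_eq_and_coeff_mem_pow_and_aeval_eq_zero
    (P A n) (PolLaw.actEnd M (P A n) x) ⊤ (by simp) |> fun ⟨p, h⟩ => (⟨p, h.1, trivial, h.2.2.2⟩ :
      ∃ p : (P A n)[X], p.Monic ∧ True ∧ Polynomial.aeval (PolLaw.actEnd M (P A n) x) p = 0)
  rw [Polynomial.aeval_algHom_apply] at hp
  set y := Polynomial.aeval x p
  have hy : PolLaw.actEnd M (Q A n) (mapB (incl A n) y) = 0 := by
    refine TensorProduct.AlgebraTensorModule.ext fun s m => ?_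
    have := PolLaw.rTensor_actEnd M (incl A n) y (1 ⊗ₜ[A] m)
    rw [hp, LinearMap.zero_apply, map_zero, LinearMap.rTensor_tmul, AlgHom.toLinearMap_apply, map_one] at this
    have hs : s ⊗ₜ[A] m = s • ((1 : Q A n) ⊗ₜ[A] m) := by
      rw [TensorProduct.smul_tmul', smul_eq_mul, mul_one]
    rw [hs, map_smul, ← this, smul_zero, LinearMap.zero_apply]
  have hQ : Polynomial.aeval (PolLaw.actEnd M (Q A n) (mapB (incl A n) x)) p = 0 := by
    rw [← Polynomial.aeval_map_algebraMap (Q A n), Polynomial.aeval_algHom_apply]
    have : Polynomial.aeval (mapB (incl A n) x) (p.map (algebraMap (P A n) (Q A n))) =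
        mapB (incl A n) y := by
      simp only [y, Polynomial.aeval_def]
      rw [Polynomial.eval₂_map, ← AlgHom.coe_toRingHom, Polynomial.hom_eval₂]
      congr 1
    rw [this, hy]
  classical
  let b := Module.Free.chooseBasis (Q A n) (Q A n ⊗[A] M)
  rw [detQ, ← LinearMap.det_toMatrix b]
  refine isIntegral_det _ p hpm ?_
  rw [← Polynomial.aeval_map_algebraMap (Q A n)] at hQ ⊢
  have e1 : LinearMap.toMatrix b b (PolLaw.actEnd M (Q A n) (mapB (incl A n) x)) =
    (LinearMap.toMatrixAlgEquiv b).toAlgHom (PolLaw.actEnd M (Q A n) (mapB (incl A n) x)) := rfl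
  rw [e1, Polynomial.aeval_algHom_apply, hQ, map_zero]

variable [IsIntegrallyClosed A]

theorem exists_detQ (n : ℕ) (x : P A n ⊗[A] B) : ∃ c : P A n, incl A n c = detQ M n x := by
  have h := MvPolynomial.isIntegral_iff_isIntegral_coeff.1 (isIntegral_detQ M n x)
  have h2 : detQ M n x ∈ Set.range (MvPolynomial.map (algebraMap A (FractionRing A))) :=
    MvPolynomial.mem_range_map_iff_coeffs_subset.2 fun a ha => by
      obtain ⟨m, -, rfl⟩ := MvPolynomial.mem_coeffs_iff.1 ha
      obtain ⟨b, hb⟩ := IsIntegrallyClosed.isIntegral_iff.1 (h m)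
      exact ⟨b, hb⟩
  exact h2

/-- The determinant as an element of `A[t]`. -/
noncomputable def detP (n : ℕ) (x : P A n ⊗[A] B) : P A n := (exists_detQ M n x).choose

theorem incl_detP (n : ℕ) (x : P A n ⊗[A] B) : incl A n (detP M n x) = detQ M n x :=
  (exists_detQ M n x).choose_spec

theorem detP_natural {n m : ℕ} (φ : P A n →ₐ[A] P A m) (x : P A n ⊗[A] B) :
    φ (detP M n x) = detP M m (mapB φ x) := by
  apply incl_injective m
  let ψ : Q A n →ₐ[A] Q A m :=
    (MvPolynomial.aeval (R := FractionRing A) fun i => incl A m (φ (MvPolynomial.X i))).restrictScalars A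
  have hψ : ψ.comp (incl A n) = (incl A m).comp φ :=
    MvPolynomial.algHom_ext fun i => by simp [ψ, incl]
  have h1 : ∀ r, ψ (incl A n r) = incl A m (φ r) := fun r => AlgHom.congr_fun hψ r
  rw [← h1, incl_detP, incl_detP]
  unfold detQ
  rw [← det_mapB M ψ]
  congr 1
  rw [← AlgHom.comp_apply, ← AlgHom.comp_apply, ← Algebra.TensorProduct.map_comp,
    ← Algebra.TensorProduct.map_comp, hψ]

/-- The family on polynomial rings defining the law. -/
noncomputable def family (n : ℕ) (x : P A n ⊗[A] B) : P A n ⊗[A] A := detP M n x ⊗ₜ[A] (1 : A)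

theorem family_compat (n m : ℕ) (φ : P A n →ₐ[A] P A m) :
    φ.toLinearMap.rTensor A ∘ family (B := B) M n = family M m ∘ φ.toLinearMap.rTensor B := by
  funext x
  simp only [Function.comp_apply, family, LinearMap.rTensor_tmul, AlgHom.toLinearMap_apply,
    detP_natural, rTensor_eq_mapB]

theorem family_one (n : ℕ) : family M n (1 : P A n ⊗[A] B) = 1 := by
  have : detP M n (1 : P A n ⊗[A] B) = 1 := by
    apply incl_injective n
    rw [incl_detP, map_one, detQ, map_one, map_one, map_one]
  rw [family, this, Algebra.TensorProduct.one_def]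

theorem family_mul (n : ℕ) (x y : P A n ⊗[A] B) :
    family M n (x * y) = family M n x * family M n y := by
  have : detP M n (x * y) = detP M n x * detP M n y := by
    apply incl_injective n
    simp only [map_mul, incl_detP, detQ]
  rw [family, this, family, family, Algebra.TensorProduct.tmul_mul_tmul, one_mul]

theorem family_smul {d : ℕ} (hd : Module.finrank (FractionRing A) (FractionRing A ⊗[A] M) = d) (n : ℕ)
    (r : P A n) (x : P A n ⊗[A] B) : family M n (r • x) = r ^ d • family M n x := by
  have hs : mapB (incl A n) (r • x) = incl A n r • mapB (incl A n) x := by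
    induction x using TensorProduct.induction_on with
    | zero => simp
    | tmul a b => simp [TensorProduct.smul_tmul', smul_eq_mul]
    | add a b ha hb => simp only [smul_add, map_add, ha, hb]
  have : detP M n (r • x) = r ^ d * detP M n x := by
    apply incl_injective n
    simp only [map_mul, map_pow, incl_detP, detQ, hs]
    rw [det_smul_act (by rw [finrank_Q, hd])]
  rw [family, this, family, TensorProduct.smul_tmul', smul_eq_mul]

end Poly

end Groth.Agent.H9DetNormal
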