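import Groth.Agent.H9DetNormal.Basic
import Groth.Agent.S13174

/-!
The determinant law over a normal base: the law and its uniqueness.
-/

universe u

open scoped TensorProduct

namespace Groth.Agent.H9DetNormal

open Groth.Agent.H22Alg (exists_poly_lift rTensor_algHom_comp polyLawOfFamily polyLawOfFamily_toFun')

variable {A : Type u} [CommRing A] {B C : Type u} [CommRing B] [Algebra A B] [CommRing C] [Algebra A C]

theorem law_map (F : B →ₚₗ[A] C) {R S : Type u} [CommSemiring R] [Algebra A R] [CommSemiring S] [Algebra A S]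
    (φ : R →ₐ[A] S) (z : R ⊗[A] B) : F.toFun' S (mapB φ z) = mapB φ (F.toFun' R z) := by
  have := congrFun (F.isCompat' φ) z
  simp only [Function.comp_apply, rTensor_eq_mapB] at this
  exact this.symm

theorem mapB_smul {R S : Type u} [CommSemiring R] [Algebra A R] [CommSemiring S] [Algebra A S]
    (φ : R →ₐ[A] S) (r : R) (z : R ⊗[A] B) : mapB φ (r • z) = φ r • mapB φ z := by
  induction z using TensorProduct.induction_on with
  | zero => simp
  | tmul a b => simp [TensorProduct.smul_tmul', smul_eq_mul]
  | add a b ha hb => simp only [smul_add, map_add, ha, hb]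

/-- Homogeneity of a law can be tested on polynomial rings. -/
theorem isHomog_of_polynomial (F : B →ₚₗ[A] C) (d : ℕ)
    (h : ∀ (n : ℕ) (r : P A n) (x : P A n ⊗[A] B), F.toFun' (P A n) (r • x) = r ^ d • F.toFun' (P A n) x) :
    PolLaw.IsHomog F d := by
  intro S _ _ s x
  obtain ⟨⟨n, φ, u⟩, hu⟩ := exists_poly_lift (A := A) x
  let Φ : P A (n + 1) →ₐ[A] S := MvPolynomial.aeval (Fin.snoc (fun i => φ (MvPolynomial.X i)) s)
  let ι : P A n →ₐ[A] P A (n + 1) := MvPolynomial.rename Fin.castSucc
  have hι : Φ.comp ι = φ := MvPolynomial.algHom_ext fun i => by simp [Φ, ι]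
  have hs : Φ (MvPolynomial.X (Fin.last n)) = s := by simp [Φ]
  have hx : mapB Φ (mapB ι u) = x := by
    rw [← rTensor_eq_mapB, ← rTensor_eq_mapB, ← rTensor_algHom_comp, hι]
    exact hu
  rw [← hx, ← hs, ← mapB_smul, law_map, law_map, h, mapB_smul, map_pow]

/-- Multiplicativity of a law can be tested on polynomial rings. -/
theorem isMult_of_polynomial (F : B →ₚₗ[A] C) (h1 : ∀ n : ℕ, F.toFun' (P A n) 1 = 1)
    (hmul : ∀ (n : ℕ) (x y : P A n ⊗[A] B), F.toFun' (P A n) (x * y) = F.toFun' (P A n) x * F.toFun' (P A n) y) :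
    PolLaw.IsMult F := by
  intro S _ _
  refine ⟨?_, fun x y => ?_⟩
  · have h := law_map F (MvPolynomial.aeval (Fin.elim0 : Fin 0 → S)) 1
    rw [map_one, h1, map_one] at h
    exact h
  · obtain ⟨⟨n, φ, u⟩, hu⟩ := exists_poly_lift (A := A) x
    obtain ⟨⟨n', φ', u'⟩, hu'⟩ := exists_poly_lift (A := A) y
    let Φ : P A (n + n') →ₐ[A] S :=
      MvPolynomial.aeval (Fin.append (fun i => φ (MvPolynomial.X i)) (fun i => φ' (MvPolynomial.X i)))
    have h1 : Φ.comp (MvPolynomial.rename (Fin.castAdd n')) = φ := MvPolynomial.algHom_ext fun i => by simp [Φ]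
    have h2 : Φ.comp (MvPolynomial.rename (Fin.natAdd n)) = φ' := MvPolynomial.algHom_ext fun i => by simp [Φ]
    have hx : mapB Φ (mapB (MvPolynomial.rename (Fin.castAdd n')) u) = x := by
      rw [← rTensor_eq_mapB, ← rTensor_eq_mapB, ← rTensor_algHom_comp, h1]
      exact hu
    have hy : mapB Φ (mapB (MvPolynomial.rename (Fin.natAdd n)) u') = y := by
      rw [← rTensor_eq_mapB, ← rTensor_eq_mapB, ← rTensor_algHom_comp, h2]
      exact hu'
    rw [← hx, ← hy, ← map_mul, law_map F Φ, law_map F Φ, law_map F Φ, hmul, map_mul]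

variable [IsDomain A] [IsIntegrallyClosed A]

theorem faithfulSMul_frac (n : ℕ) : FaithfulSMul A (FractionRing (P A n)) := by
  rw [faithfulSMul_iff_algebraMap_injective, IsScalarTower.algebraMap_eq A (P A n) (FractionRing (P A n))]
  exact (IsFractionRing.injective (P A n) (FractionRing (P A n))).comp (MvPolynomial.C_injective _ _)

/-- `K[t] → Frac A[t]`. -/
noncomputable def toFrac (n : ℕ) : Q A n →ₐ[A] FractionRing (P A n) :=
  haveI := faithfulSMul_frac (A := A) n
  letI : Algebra (FractionRing A) (FractionRing (P A n)) := FractionRing.liftAlgebra A (FractionRing (P A n))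
  (MvPolynomial.aeval (R := FractionRing A)
    fun i => algebraMap (P A n) (FractionRing (P A n)) (MvPolynomial.X i)).restrictScalars A

theorem toFrac_comp_incl (n : ℕ) :
    (toFrac n).comp (incl A n) = IsScalarTower.toAlgHom A (P A n) (FractionRing (P A n)) :=
  MvPolynomial.algHom_ext fun i => by simp [toFrac, incl]

variable {M : Type u} [AddCommGroup M] [Module A M] [Module B M] [IsScalarTower A B M] [Module.Finite A M]

variable (B M) in
/-- The determinant law. -/
noncomputable def detLaw : B →ₚₗ[A] A := polyLawOfFamily (family (B := B) M) (family_compat M)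

theorem detLaw_poly (n : ℕ) (x : P A n ⊗[A] B) : (detLaw B M).toFun' (P A n) x = family M n x :=
  congrFun (polyLawOfFamily_toFun' _ _ n) x

theorem algebraMap_detP (n : ℕ) (x : P A n ⊗[A] B) :
    algebraMap (P A n) (FractionRing (P A n)) (detP M n x) =
      LinearMap.det (M := FractionRing (P A n) ⊗[A] M) (PolLaw.actEnd M (FractionRing (P A n))
        (mapB (IsScalarTower.toAlgHom A (P A n) (FractionRing (P A n))) x)) := by
  rw [← toFrac_comp_incl, ← rTensor_eq_mapB, rTensor_algHom_comp, rTensor_eq_mapB, rTensor_eq_mapB,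
    det_mapB M (toFrac n)]
  change _ = toFrac n (detQ M n x)
  rw [← incl_detP, ← AlgHom.comp_apply, toFrac_comp_incl]
  rfl

variable (B M) in
theorem existsUnique_law (d : ℕ) (hd : Module.finrank (FractionRing A) (FractionRing A ⊗[A] M) = d) :
    ∃! N : PolLaw.MulLaw A B A d, ∀ (n : ℕ) (x : P A n ⊗[A] B),
      algebraMap (P A n) (FractionRing (P A n)) (TensorProduct.rid A (P A n) (N.law.toFun' (P A n) x)) =
        LinearMap.det (M := FractionRing (P A n) ⊗[A] M) (PolLaw.actEnd M (FractionRing (P A n))
          (mapB (IsScalarTower.toAlgHom A (P A n) (FractionRing (P A n))) x)) := by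
  have hh : PolLaw.IsHomog (detLaw (A := A) B M) d := isHomog_of_polynomial (detLaw (A := A) B M) d fun n r x => by
    simp only [detLaw_poly, family_smul M hd]
  have hm : PolLaw.IsMult (detLaw (A := A) B M) :=
    isMult_of_polynomial (detLaw (A := A) B M) (fun n => by simp only [detLaw_poly, family_one])
      (fun n x y => by simp only [detLaw_poly, family_mul])
  refine ⟨⟨detLaw B M, hh, hm⟩, fun n x => ?_, fun N hN => ?_⟩
  · show algebraMap _ _ (TensorProduct.rid A (P A n) ((detLaw (A := A) B M).toFun' (P A n) x)) = _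
    rw [detLaw_poly, family, TensorProduct.rid_tmul, one_smul, algebraMap_detP]
  · apply PolLaw.MulLaw.ext
    refine S13174.result.1 (Subtype.ext (funext fun n => funext fun x => ?_))
    show N.law.toFun' (P A n) x = (detLaw (A := A) B M).toFun' (P A n) x
    apply (TensorProduct.rid A (P A n)).injective
    apply IsFractionRing.injective (P A n) (FractionRing (P A n))
    rw [hN n x, detLaw_poly, family, TensorProduct.rid_tmul, one_smul, algebraMap_detP]

end Groth.Agent.H9DetNormal
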